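import Mathlib
import Cfsg.Agent.Lib.Helper55.OOG.Defs
import Cfsg.Agent.Lib.Helper88.OOG.Levi

/-!
# Project OOG (S2413), package [XL]: the Levi image of a transvection is the long root
element `ρ_{f_j, c e_i}`.
-/

set_option autoImplicit false
open scoped Matrix

namespace Cfsg.Agent.Lib.Helper88.OOG

open Cfsg.Agent.Lib.Helper55.OOG

universe u

section xl

variable {m : ℕ} {F : Type u} [Field F]

theorem xl_transvection_mulVec (i j : Fin m) (c : F) (x : Fin m → F) (a : Fin m) :
    ((1 + Matrix.single i j c : Matrix (Fin m) (Fin m) F) *ᵥ x) a =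
      x a + if a = i then c * x j else 0 := by
  rw [Matrix.add_mulVec, Matrix.one_mulVec, Pi.add_apply, Matrix.single_mulVec_eq]
  by_cases h : a = i
  · subst h
    simp
  · simp [h]

theorem xl_inv (i j : Fin m) (hij : i ≠ j) (c : F) :
    (1 + Matrix.single i j c : Matrix (Fin m) (Fin m) F)⁻¹ = 1 + Matrix.single i j (-c) := by
  apply Matrix.inv_eq_right_inv
  have h := Matrix.transvection_mul_transvection_same (R := F) i j hij c (-c)
  rw [add_neg_cancel, Matrix.transvection_zero] at h
  exact h

end xl

/-- [XL] -/
theorem pkgXL : PkgXL.{u} := by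
  intro m F _ L hL i j hij c v
  have hm : mat (L (Matrix.SpecialLinearGroup.transvection hij c)) =
      leviMat (1 + Matrix.single i j c : Matrix (Fin m) (Fin m) F) := hL _
  rw [hm, leviMat_mulVec, xl_inv i j hij c, Matrix.transpose_add, Matrix.transpose_one,
    Matrix.transpose_single]
  rw [B_Fv, B_smul_right, B_E, Q_smul, Q_E]
  funext k
  rcases k with k | k | k
  · simp
  · simp only [Sum.elim_inr, Sum.elim_inl, xl_transvection_mulVec, Function.comp_apply,
      Pi.add_apply, Pi.sub_apply, Pi.smul_apply, smul_eq_mul]
    by_cases h : k = i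
    · subst h
      simp
      ring
    · simp [h]
  · simp only [Sum.elim_inr, xl_transvection_mulVec, Function.comp_apply,
      Pi.add_apply, Pi.sub_apply, Pi.smul_apply, smul_eq_mul]
    by_cases h : k = j
    · subst h
      simp
      ring
    · simp [h]

end Cfsg.Agent.Lib.Helper88.OOG
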